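import Mathlib
import Cfsg.Agent.Helper58.Marggraf
import Cfsg.Agent.Helper60.Marg.Defs

set_option autoImplicit false

/-!
# S3620 piece (B3b) for helper60: if the classes are singletons, the fixator of `A` is primitive on
the rest
-/

namespace Cfsg.Agent.Helper88.Marg

open Cfsg.Agent.Helper60.Marg Cfsg.Agent.Helper58 MulAction
open scoped Pointwise

variable {G : Type*} [Group G] {Ω : Type*} [MulAction G Ω] [Fintype Ω] [DecidableEq Ω]

/-- (B3b) if the classes (for one `A ⊆ Γᶜ`) are singletons, the fixator of `A` is primitive on the rest -/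
theorem isPreprimitive_fixing_of_cls_one {Γ : Set Ω} (hJ : IsJ G Γ) (m t : ℕ)
    (hm : Γ.ncard = m) (hn : Fintype.card Ω = 2 * m + 1) (ht4 : 4 ≤ t) (htm : t < m)
    (ht : IsMultiplyPretransitive G Ω t) (A : Finset Ω) (hA : A.card + 1 = t)
    (hAΓ : ∀ a ∈ A, a ∉ Γ)
    (h1 : ∀ x y : Ω, x ∉ A → y ∉ A → Eqv (translates G Γ) A x y → x = y) :
    IsPreprimitive (fixingSubgroup G (A : Set Ω)) (SubMulAction.ofFixingSubgroup G (A : Set Ω)) := by
  classical
  -- the fixator is transitive on the rest
  have hpre : IsPretransitive (fixingSubgroup G (A : Set Ω))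
      (SubMulAction.ofFixingSubgroup G (A : Set Ω)) := by
    have h := SubMulAction.ofFixingSubgroup.isMultiplyPretransitive (G := G) (Hn := ht) (m := 1)
      (A : Set Ω) (by rw [Set.ncard_coe_finset]; exact hA)
    exact is_one_pretransitive_iff.mp h
  -- the number of remaining points
  have hcardX : Nat.card (SubMulAction.ofFixingSubgroup G (A : Set Ω)) + t = 2 * m + 2 := by
    have h1' : Nat.card (SubMulAction.ofFixingSubgroup G (A : Set Ω)) =
        ((A : Set Ω)ᶜ).ncard := by
      rw [← Nat.card_coe_set_eq]
      rfl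
    have h2 : ((A : Set Ω)ᶜ).ncard + (A : Set Ω).ncard = Nat.card Ω := by
      rw [add_comm]
      exact Set.ncard_add_ncard_compl _
    rw [Set.ncard_coe_finset, Nat.card_eq_fintype_card, hn] at h2
    omega
  refine { toIsPretransitive := hpre, isTrivialBlock_of_isBlock := ?_ }
  intro B hB
  by_cases htop : B = Set.univ
  · exact Or.inr htop
  left
  -- the block is small
  have hsmall : B.ncard * 2 ≤ Nat.card (SubMulAction.ofFixingSubgroup G (A : Set Ω)) := by
    by_contra hcon
    push Not at hcon
    exact htop (hB.eq_univ_of_card_lt hcon)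
  have hBm : B.ncard < m := by omega
  -- no translate disjoint from `A` separates two points of the block
  have hsep : ∀ x y : SubMulAction.ofFixingSubgroup G (A : Set Ω), x ∈ B → y ∈ B →
      ∀ T ∈ TA (translates G Γ) A, (x : Ω) ∈ T → (y : Ω) ∈ T := by
    intro x y hx hy T hT hxT
    by_contra hyT
    unfold TA at hT
    rw [Finset.mem_filter] at hT
    obtain ⟨hTt, hTA⟩ := hT
    obtain ⟨g, hg⟩ := (mem_translates Γ T).mp hTt
    have hJT : IsJ G (T : Set Ω) := by
      rw [hg]
      exact hJ.preimage g
    -- `T` is contained in the image of the block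
    have hsub : (T : Set Ω) ⊆ Subtype.val '' B := by
      intro z hz
      obtain ⟨k, hk, hkxz⟩ := hJT x hxT z hz
      have hkmem : k ∈ fixingSubgroup G (A : Set Ω) := by
        rw [mem_fixingSubgroup_iff]
        intro a ha
        apply hk
        intro haT
        exact (Finset.disjoint_left.mp hTA) haT ha
      have hky : (⟨k, hkmem⟩ : fixingSubgroup G (A : Set Ω)) • y = y := by
        apply Subtype.ext
        exact hk _ hyT
      have hkB : (⟨k, hkmem⟩ : fixingSubgroup G (A : Set Ω)) • B = B := by
        apply (isBlock_iff_smul_eq_of_mem.mp hB) hy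
        rw [hky]
        exact hy
      have hkx : (⟨k, hkmem⟩ : fixingSubgroup G (A : Set Ω)) • x ∈ B := by
        rw [← hkB]
        exact Set.smul_mem_smul_set hx
      refine ⟨_, hkx, ?_⟩
      exact hkxz
    have hcardT : T.card = m := by
      have h3 : (T : Set Ω).ncard = Γ.ncard := by
        rw [hg]
        have : {z : Ω | g • z ∈ Γ} = (fun z => g⁻¹ • z) '' Γ := by
          ext z
          constructor
          · intro hz
            exact ⟨g • z, hz, inv_smul_smul g z⟩
          · rintro ⟨w, hw, rfl⟩
            show g • g⁻¹ • w ∈ Γ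
            rw [smul_inv_smul]
            exact hw
        rw [this]
        exact Set.ncard_image_of_injective _ (MulAction.injective g⁻¹)
      rw [Set.ncard_coe_finset] at h3
      rw [h3, hm]
    have hle : (T : Set Ω).ncard ≤ (Subtype.val '' B).ncard :=
      Set.ncard_le_ncard hsub (Set.toFinite _)
    rw [Set.ncard_coe_finset, hcardT, Set.ncard_image_of_injective _ Subtype.val_injective] at hle
    omega
  intro x hx y hy
  apply Subtype.ext
  apply h1 x y x.2 y.2
  intro T hT
  exact ⟨hsep x y hx hy T hT, hsep y x hy hx T hT⟩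

end Cfsg.Agent.Helper88.Marg
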