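import Mathlib
import Cfsg.Agent.Helper58.Marggraf
import Cfsg.Agent.Helper60.Marg.Defs

set_option autoImplicit false

/-!
# S3620 pieces (B3c), (B3d) for helper60: the Jordan set `Γ` seen from the fixator of `A ⊆ Γᶜ`
-/

namespace Cfsg.Agent.Helper88.Marg

open Cfsg.Agent.Helper60.Marg Cfsg.Agent.Helper58 MulAction
open scoped Pointwise

variable {G : Type*} [Group G] {Ω : Type*} [MulAction G Ω]

/-- (B3c) the fixator of `A ⊆ Γᶜ` has the Jordan set `Γ` -/
theorem isJ_ofFixingSubgroup {Γ : Set Ω} (hJ : IsJ G Γ) (A : Set Ω) (hAΓ : ∀ a ∈ A, a ∉ Γ) :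
    IsJ (fixingSubgroup G A) (Subtype.val ⁻¹' Γ : Set (SubMulAction.ofFixingSubgroup G A)) := by
  intro x hx y hy
  obtain ⟨k, hk, hkxy⟩ := hJ (x : Ω) hx (y : Ω) hy
  have hkmem : k ∈ fixingSubgroup G A := by
    rw [mem_fixingSubgroup_iff]
    intro a ha
    exact hk a (hAΓ a ha)
  refine ⟨⟨k, hkmem⟩, ?_, ?_⟩
  · intro z hz
    apply Subtype.ext
    exact hk (z : Ω) hz
  · apply Subtype.ext
    exact hkxy

/-- (B3d) -/
theorem ncard_preimage_ofFixingSubgroup (Γ A : Set Ω) (hAΓ : ∀ a ∈ A, a ∉ Γ) :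
    (Subtype.val ⁻¹' Γ : Set (SubMulAction.ofFixingSubgroup G A)).ncard = Γ.ncard := by
  have himg : Subtype.val '' (Subtype.val ⁻¹' Γ : Set (SubMulAction.ofFixingSubgroup G A)) = Γ := by
    ext z
    constructor
    · rintro ⟨w, hw, rfl⟩
      exact hw
    · intro hz
      have hzA : z ∉ A := fun h => hAΓ z h hz
      exact ⟨⟨z, hzA⟩, hz, rfl⟩
  rw [← Set.ncard_image_of_injective _ Subtype.val_injective, himg]

end Cfsg.Agent.Helper88.Marg
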